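import Mathlib

/-! A full cycle `c` on `ZMod (p ^ (a+1))` and a permutation `d`: a criterion for `⟨c, d⟩` to be non-solvable,
and transfer of such pairs along equivariant embeddings into alternating groups. -/

set_option autoImplicit false

namespace Cfsg.Agent.AnP
open Equiv

theorem exists_abelian_normal {G : Type*} [Group G] (H : Subgroup G) (hs : Group.IsSolvable H) (h1 : H ≠ ⊥) :
    ∃ A : Subgroup G, A ≠ ⊥ ∧ (∀ h ∈ H, ∀ z ∈ A, h * z * h⁻¹ ∈ A) ∧ ∀ x ∈ A, ∀ y ∈ A, x * y = y * x := by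
  classical
  have hs := hs.solvable
  have h0 : Nat.find hs ≠ 0 := fun e => by
    have := Nat.find_spec hs
    rw [e, derivedSeries_zero] at this
    exact h1 (eq_bot_iff.2 fun x hx => congrArg Subtype.val
      (Subgroup.mem_bot.1 (this.le (Subgroup.mem_top (⟨x, hx⟩ : H)))))
  obtain ⟨k, hk⟩ := Nat.exists_eq_succ_of_ne_zero h0
  refine ⟨(derivedSeries H k).map H.subtype, fun e => Nat.find_min hs (m := k) (by omega)
    ((Subgroup.map_eq_bot_iff_of_injective _ H.subtype_injective).1 e), ?_, ?_⟩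
  · rintro h hh _ ⟨z, hz, rfl⟩
    exact ⟨_, (derivedSeries_normal H k).conj_mem z hz ⟨h, hh⟩, rfl⟩
  · rintro _ ⟨x, hx, rfl⟩ _ ⟨y, hy, rfl⟩
    have := Nat.find_spec hs
    rw [hk, derivedSeries_succ] at this
    have := commutatorElement_eq_one_iff_mul_comm.1
      (Subgroup.mem_bot.1 (this.le (Subgroup.commutator_mem_commutator hx hy)))
    exact congrArg Subtype.val this

theorem exists_mul_eq {p a m : ℕ} (hp : p.Prime) (hm : m = p ^ (a + 1)) {t : ZMod m} (ht : t ≠ 0) :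
    ∃ k : ZMod m, k * t = (p ^ a : ℕ) := by
  haveI : NeZero m := ⟨hm ▸ pow_ne_zero _ hp.ne_zero⟩
  obtain ⟨i, r, h1, h2⟩ := Nat.exists_eq_pow_mul_and_not_dvd ((ZMod.val_ne_zero t).2 ht) p hp.ne_one
  have hi : i ≤ a := by
    have h3 : p ^ i ≤ t.val := Nat.le_of_dvd (Nat.pos_of_ne_zero ((ZMod.val_ne_zero t).2 ht)) ⟨r, h2⟩
    have h4 := h3.trans_lt ((ZMod.val_lt t).trans_eq hm)
    exact Nat.le_of_lt_succ ((Nat.pow_lt_pow_iff_right hp.one_lt).1 h4)
  obtain ⟨v, hv⟩ := ((ZMod.isUnit_iff_coprime r m).2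
    (hm ▸ ((Nat.Prime.coprime_iff_not_dvd hp).2 h1).symm.pow_right _)).exists_left_inv
  obtain ⟨l, rfl⟩ := Nat.exists_eq_add_of_le hi
  refine ⟨(p ^ l : ℕ) * v, ?_⟩
  rw [← ZMod.natCast_zmod_val t, h2]
  push_cast
  linear_combination (p : ZMod m) ^ l * (p : ZMod m) ^ i * hv + 0 * hv

/-- translation. -/
def tr {m : ℕ} (t : ZMod m) : Perm (ZMod m) := Equiv.addRight t

@[simp] theorem tr_apply {m : ℕ} (t x : ZMod m) : tr t x = x + t := rfl

@[simp] theorem tr_symm_apply {m : ℕ} (t x : ZMod m) : (tr t).symm x = x - t := by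
  rw [Equiv.symm_apply_eq]; simp

theorem tr_pow {m : ℕ} (t : ZMod m) (k : ℕ) : tr t ^ k = tr ((k : ZMod m) * t) := by
  induction k with
  | zero => ext; simp
  | succ k ih => ext; simp [pow_succ', ih]; ring

theorem core {p a m : ℕ} (hp : p.Prime) (hm : m = p ^ (a + 1)) (d : Perm (ZMod m))
    (hs : Group.IsSolvable (Subgroup.closure {tr 1, d})) {x₀ j y₀ : ZMod m}
    (h2 : d (x₀ + (p ^ a : ℕ)) = d x₀ + j * (p ^ a : ℕ)) (h3 : IsUnit (d (y₀ + (p ^ a : ℕ)) - d y₀))
    (x : ZMod m) : d (x + (p ^ a : ℕ)) = d x + j * (p ^ a : ℕ) := by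
  classical
  haveI : NeZero m := ⟨hm ▸ pow_ne_zero _ hp.ne_zero⟩
  haveI : Fact (1 < m) := ⟨hm ▸ Nat.one_lt_pow (by omega) hp.one_lt⟩
  haveI := Fact.mk hp
  set s : ZMod m := ((p ^ a : ℕ) : ZMod m)
  have hc : tr 1 ∈ Subgroup.closure {tr 1, d} := Subgroup.subset_closure (by simp)
  have hd : d ∈ Subgroup.closure {tr 1, d} := Subgroup.subset_closure (by simp)
  obtain ⟨A, a1, a2, a3⟩ := exists_abelian_normal _ hs fun e => by
    have := congrArg (fun f : Perm (ZMod m) => f 0) (Subgroup.mem_bot.1 (e.le hc))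
    simp at this
  have ht : ∀ t : ZMod m, tr t ∈ Subgroup.closure {tr 1, d} := fun t => by
    have := pow_mem hc t.val
    rwa [tr_pow, ZMod.natCast_zmod_val, mul_one] at this
  have sh : ∀ {x y : ZMod m} (t : ZMod m), (∃ z ∈ A, z x = y) → ∃ z ∈ A, z (x + t) = y + t := by
    rintro x _ t ⟨z, hz, rfl⟩
    exact ⟨_, a2 _ (ht t) z hz, by simp⟩
  have ml : ∀ (k t : ZMod m), (∃ z ∈ A, z 0 = t) → ∃ z ∈ A, z 0 = k * t := by
    intro k t h
    rw [← ZMod.natCast_zmod_val k]
    induction k.val with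
    | zero => exact ⟨1, one_mem _, by simp⟩
    | succ n ih =>
      obtain ⟨z, hz, e⟩ := ih
      obtain ⟨z', hz', e'⟩ := sh (n * t) h
      exact ⟨z' * z, mul_mem hz' hz, by rw [Perm.mul_apply, e, ← zero_add (n * t : ZMod m), e']; push_cast; ring⟩
  have hsB : ∃ z ∈ A, z 0 = s := by
    obtain ⟨z, hz, h1⟩ := (Subgroup.ne_bot_iff_exists_ne_one.1 a1).imp fun z h => And.intro z.2 h
    obtain ⟨y, hy⟩ : ∃ y, z.1 y ≠ y := by
      by_contra! h
      exact h1 (Subtype.ext (Perm.ext h))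
    obtain ⟨k, hk⟩ := exists_mul_eq hp hm (sub_ne_zero.2 hy)
    have := ml k (z.1 y - y) (by simpa [sub_eq_add_neg] using sh (x := y) (-y) ⟨z.1, hz, rfl⟩)
    rwa [hk] at this
  have trans : ∀ x y : ZMod m, ∃ z ∈ A, z x = y := by
    intro x y
    obtain ⟨z, hz, e⟩ := sh y₀ hsB
    obtain ⟨v, hv⟩ := h3.exists_left_inv
    have := ml ((y - x) * v) (d (y₀ + s) - d y₀) (by
      simpa [sub_eq_add_neg] using sh (x := d y₀) (-d y₀) ⟨_, a2 d hd z hz, show _ = d (y₀ + s) by
        rw [zero_add] at e; simp [e, add_comm]⟩)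
    rw [mul_assoc, hv, mul_one] at this
    simpa using sh x this
  have semi : ∀ z ∈ A, ∀ x, z x = x → z = 1 := by
    intro z hz x e
    ext y
    obtain ⟨z', hz', rfl⟩ := trans x y
    rw [← Perm.mul_apply, a3 z hz z' hz', Perm.mul_apply, e, Perm.one_apply]
  have hcard : Fintype.card A = m := by
    rw [Fintype.card_of_bijective (f := fun z : A => z.1 0) ⟨fun z z' e => ?_, fun y => ?_⟩, ZMod.card]
    · have := semi _ (mul_mem (inv_mem z'.2) z.2) 0 (by rw [Perm.mul_apply, Perm.inv_eq_iff_eq]; exact e)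
      exact Subtype.ext (inv_mul_eq_one.1 this).symm
    · obtain ⟨z, hz, e⟩ := trans 0 y
      exact ⟨⟨z, hz⟩, e⟩
  let σ : Perm A := Perm.subtypePerm (MulAut.toPerm _ (MulAut.conj (tr (1 : ZMod m)))) fun z =>
    ⟨fun h => by
      have := a2 _ (inv_mem hc) (tr (1 : ZMod m) * z * (tr (1 : ZMod m))⁻¹) h
      simpa [mul_assoc] using this, a2 _ hc z⟩
  have hσ : σ ^ p ^ (a + 1) = 1 := by
    ext z : 2
    simp only [σ, Perm.subtypePerm_pow, Perm.subtypePerm_apply, ← map_pow, tr_pow, ← hm]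
    simp [show tr (0 : ZMod m) = 1 from by ext; simp]
  obtain ⟨z, hz, h1⟩ := Perm.exists_fixed_point_of_prime' (by rw [hcard, hm]; exact dvd_pow_self _ (by omega))
    hσ (a := 1) (Subtype.ext (show tr 1 * 1 * (tr 1)⁻¹ = 1 by simp))
  have hz : tr 1 * z.1 = z.1 * tr 1 := mul_inv_eq_iff_eq_mul.1 (congrArg Subtype.val hz)
  have hz2 : z.1 = tr (z.1 0) := by
    ext y
    have := congrArg (fun f : Perm (ZMod m) => f 0) ((Commute.pow_left hz y.val).eq)
    simp only [tr_pow, Perm.mul_apply, tr_apply, ZMod.natCast_zmod_val, mul_one, zero_add] at this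
    rw [← this, tr_apply, add_comm]
  have hz0 : ∀ k : ZMod m, tr (k * s) ∈ A := by
    intro k
    obtain ⟨l, hl⟩ := exists_mul_eq hp hm (t := z.1 0) fun e => h1 (Subtype.ext (semi _ z.2 0 e))
    have := pow_mem z.2 (k * l).val
    rwa [hz2, tr_pow, ZMod.natCast_zmod_val, mul_assoc, hl] at this
  have := semi _ (mul_mem (inv_mem (hz0 j)) (a2 d hd _ (hz0 1))) (d x₀) (by simp [h2])
  have := congrArg (fun f : Perm (ZMod m) => f (d x)) (inv_mul_eq_one.1 this)
  simpa using this.symm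

/-- `c * d` has a point whose cycle length is not a power of `p`, and `⟨c, d⟩` is not solvable. -/
def Good {α : Type*} (p : ℕ) (c d : Perm α) : Prop :=
  (∃ x k, Nat.Coprime k p ∧ ((c * d) ^ k) x = x ∧ (c * d) x ≠ x) ∧ ¬ Group.IsSolvable (Subgroup.closure {c, d})

def Good2 {α : Type*} [Fintype α] [DecidableEq α] (p : ℕ) (c d : Perm α) : Prop :=
  ∃ σ τ : Perm α, Perm.sign σ ≠ Perm.sign τ ∧ Good p c (σ * d * σ⁻¹) ∧ Good p c (τ * d * τ⁻¹)

def Concl {G : Type*} [Group G] (p : ℕ) (u w : G) : Prop :=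
  ∃ g : G, (¬ ∃ k : ℕ, orderOf (u * (g * w * g⁻¹)) = p ^ k) ∧
    ¬ Group.IsSolvable (Subgroup.closure ({u, g * w * g⁻¹} : Set G))

theorem Concl.symm {G : Type*} [Group G] {p : ℕ} {u w : G} (h : Concl p w u) : Concl p u w := by
  obtain ⟨g, h1, h2⟩ := h
  refine ⟨g⁻¹, fun ⟨k, hk⟩ => h1 ⟨k, ?_⟩, fun hs => h2 ?_⟩
  · rw [← hk, ← (MulAut.conj (w * g)).orderOf_eq (u * _)]
    congr 1
    simp [mul_assoc]
  · have e : Subgroup.closure ({w, g * u * g⁻¹} : Set G) =
        (Subgroup.closure ({u, g⁻¹ * w * g⁻¹⁻¹} : Set G)).map (MulAut.conj g).toMonoidHom := by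
      rw [MonoidHom.map_closure, Set.image_pair, Set.pair_comm]
      simp [mul_assoc]
    rw [e]
    exact Group.isSolvable_of_surjective (MonoidHom.subgroupMap_surjective _ _)

theorem Good.transfer {α : Type*} {n p : ℕ} {u w : alternatingGroup (Fin n)} {c d : Perm α} {ι : α → Fin n}
    (hι : Function.Injective ι) (hu : ∀ i, u.1 (ι i) = ι (c i)) (hw : ∀ i, w.1 (ι i) = ι (d i))
    (h : Good p c d) : (¬ ∃ k : ℕ, orderOf (u * w) = p ^ k) ∧
      ¬ Group.IsSolvable (Subgroup.closure ({u, w} : Set (alternatingGroup (Fin n)))) := by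
  let L : Subgroup (alternatingGroup (Fin n) × Perm α) := Subgroup.closure {(u, c), (w, d)}
  have hL : ∀ z ∈ L, ∀ i, z.1.1 (ι i) = ι (z.2 i) := by
    intro z hz
    induction hz using Subgroup.closure_induction with
    | mem x hx => rcases hx with rfl | rfl <;> assumption
    | one => simp
    | mul x y _ _ hx hy => intro i; simp [hx, hy]
    | inv x _ hx =>
      intro i
      rw [Prod.fst_inv, Prod.snd_inv, Subgroup.coe_inv, Perm.inv_eq_iff_eq, hx]; simp
  have hm : (u, c) * (w, d) ∈ L :=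
    mul_mem (Subgroup.subset_closure (by simp)) (Subgroup.subset_closure (by simp))
  refine ⟨fun ⟨k, hk⟩ => ?_, fun hs => h.2 ?_⟩
  · obtain ⟨x, l, h1, h2, h3⟩ := h.1
    have h4 := hL _ (pow_mem hm (p ^ k)) x
    rw [Prod.pow_fst, Prod.fst_mul, ← hk, pow_orderOf_eq_one, hk] at h4
    have h5 : Function.IsPeriodicPt (c * d) (p ^ k) x := by
      rw [Function.IsPeriodicPt, Perm.iterate_eq_pow]; exact (hι h4).symm
    have h6 : Function.IsPeriodicPt (c * d) l x := by
      rw [Function.IsPeriodicPt, Perm.iterate_eq_pow]; exact h2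
    have := h6.gcd h5
    rw [h1.pow_right k] at this
    exact h3 this
  · have e1 : L.map (MonoidHom.fst _ _) = Subgroup.closure {u, w} := by
      rw [MonoidHom.map_closure, Set.image_pair]; rfl
    have e2 : L.map (MonoidHom.snd _ _) = Subgroup.closure {c, d} := by
      rw [MonoidHom.map_closure, Set.image_pair]; rfl
    rw [← e1] at hs
    rw [← e2]
    haveI : Group.IsSolvable L := Group.isSolvable_of_isSolvable_injective
      (f := (MonoidHom.fst _ _).subgroupMap L) ((injective_iff_map_eq_one _).2 fun z hz => by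
        have h1 : z.1.1 = 1 := congrArg Subtype.val hz
        refine Subtype.ext (Prod.ext h1 (Perm.ext fun i => hι ?_))
        rw [← hL _ z.2, h1]; rfl)
    exact Group.isSolvable_of_surjective (MonoidHom.subgroupMap_surjective _ _)

theorem Good2.concl {α : Type*} [Fintype α] [DecidableEq α] {n p : ℕ} {u w : alternatingGroup (Fin n)}
    {c d : Perm α} {ι κ : α → Fin n} (hι : Function.Injective ι) (hκ : Function.Injective κ)
    (hu : ∀ i, u.1 (ι i) = ι (c i)) (hw : ∀ i, w.1 (κ i) = κ (d i)) (h : Good2 p c d) : Concl p u w := by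
  classical
  obtain ⟨σ, τ, h1, h2, h3⟩ := h
  have key : ∀ (ρ : Perm α) (g : alternatingGroup (Fin n)), (∀ i, g.1 (κ i) = ι (ρ i)) →
      Good p c (ρ * d * ρ⁻¹) → Concl p u w := fun ρ g hg hρ =>
    ⟨g, hρ.transfer hι hu fun i => by
      have : g.1⁻¹ (ι i) = κ (ρ⁻¹ i) := by rw [Perm.inv_eq_iff_eq, hg]; simp
      simp only [Subgroup.coe_mul, Subgroup.coe_inv, Perm.mul_apply, this, hw, hg]⟩
  obtain ⟨g, hg⟩ := Perm.exists_extending_pair _ _ hκ (hι.comp σ.injective)
  by_cases hs : Perm.sign g = 1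
  · exact key σ ⟨g, hs⟩ hg h2
  · refine key τ ⟨(τ * σ⁻¹).extendDomain (Equiv.ofInjective ι hι) * g, ?_⟩ (fun i => ?_) h3
    · rw [Perm.mem_alternatingGroup, map_mul, Perm.sign_extendDomain, map_mul, map_inv]
      generalize Perm.sign σ = x, Perm.sign τ = y, Perm.sign g = z at *
      revert x y z; decide
    · have := Perm.extendDomain_apply_image (τ * σ⁻¹) (Equiv.ofInjective ι hι) (σ i)
      simp only [Perm.mul_apply, hg, Function.comp]
      simpa using this

/-- two extensions of opposite sign of a partial injection. -/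
theorem exists_two {α : Type*} [Fintype α] [DecidableEq α] {k : ℕ} {t X : Fin k → α}
    (ht : Function.Injective t) (hX : Function.Injective X) (hk : k + 2 ≤ Fintype.card α) :
    ∃ σ τ : Perm α, Perm.sign σ ≠ Perm.sign τ ∧ (∀ i, σ (t i) = X i) ∧ ∀ i, τ (t i) = X i := by
  obtain ⟨σ, hσ⟩ := Perm.exists_extending_pair _ _ ht hX
  obtain ⟨x, hx, y, hy, hxy⟩ := Finset.one_lt_card.1 (show 1 < (Finset.univ.image X)ᶜ.card by
    rw [Finset.card_compl, Finset.card_image_of_injective _ hX, Finset.card_univ, Fintype.card_fin]; omega)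
  simp only [Finset.mem_compl, Finset.mem_image, Finset.mem_univ, true_and, not_exists] at hx hy
  refine ⟨σ, swap x y * σ, ?_, hσ, fun i => ?_⟩
  · rw [map_mul, Perm.sign_swap hxy]
    generalize Perm.sign σ = z
    revert z; decide
  · rw [Perm.mul_apply, hσ, swap_apply_of_ne_of_ne (hx i) (hy i)]

end Cfsg.Agent.AnP
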