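import Cfsg.Agent.AnP.A
import Cfsg.Agent.OT.A

/-! Good pairs: a full cycle on `ZMod (p ^ a)` against a `p`-element, and pairs of elements of order three. -/

set_option autoImplicit false

namespace Cfsg.Agent.AnP
open Equiv

theorem conj_apply {α ι : Type*} {σ d : Perm α} {t X : ι → α} (h : ∀ i, σ (t i) = X i) {i j : ι}
    (e : d (t i) = t j) : (σ * d * σ⁻¹) (X i) = X j := by
  rw [← h, ← h, ← e]; simp

theorem cast_inj {k m : ℕ} {X : Fin k → ℕ} (hX : Function.Injective X) (h : ∀ i, X i < m) :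
    Function.Injective fun i => (X i : ZMod m) := fun i j e => hX (by
  have := (ZMod.natCast_eq_natCast_iff' _ _ _).1 e
  rwa [Nat.mod_eq_of_lt (h i), Nat.mod_eq_of_lt (h j)] at this)

theorem nil_s {p a m : ℕ} (hm : m = p ^ (a + 2)) : IsNilpotent ((p ^ (a + 1) : ℕ) : ZMod m) :=
  ⟨2, by
    rw [← Nat.cast_pow, ZMod.natCast_eq_zero_iff, hm, ← pow_mul]
    exact pow_dvd_pow _ (by omega)⟩

theorem two_cyc {p m : ℕ} (hp : p.Prime) (hp3 : 3 ≤ p) {d : Perm (ZMod m)} {x y : ZMod m} (h1 : d x + 1 = y)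
    (h2 : d y + 1 = x) (h : y ≠ x) :
    ∃ x k, Nat.Coprime k p ∧ ((tr 1 * d) ^ k : Perm (ZMod m)) x = x ∧ (tr 1 * d : Perm (ZMod m)) x ≠ x :=
  ⟨x, 2, (Nat.coprime_primes Nat.prime_two hp).2 (by omega), by simp [pow_two, h1, h2], by simpa [h1]⟩

theorem good_of {p a m : ℕ} (hp : p.Prime) (hp3 : 3 ≤ p) (hm : m = p ^ (a + 2)) {d : Perm (ZMod m)}
    {x y x₀ j y₀ : ZMod m} (h1 : d x + 1 = y) (h2 : d y + 1 = x) (h : y ≠ x)
    (h3 : d (x₀ + (p ^ (a + 1) : ℕ)) = d x₀ + j * (p ^ (a + 1) : ℕ))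
    (h4 : IsUnit (d (y₀ + (p ^ (a + 1) : ℕ)) - d y₀)) : Good p (tr 1) d := by
  haveI : Fact (1 < m) := ⟨hm ▸ Nat.one_lt_pow (by omega) hp.one_lt⟩
  refine ⟨two_cyc hp hp3 h1 h2 h, fun hs => ?_⟩
  rw [core hp hm d hs h3 h4, add_sub_cancel_left] at h4
  exact (nil_s hm).not_isUnit (isUnit_of_mul_isUnit_right h4)

theorem bounds {p a m : ℕ} (hp3 : 3 ≤ p) (hm : m = p ^ (a + 2)) :
    3 ≤ p ^ (a + 1) ∧ 3 * p ^ (a + 1) ≤ m :=
  ⟨hp3.trans (Nat.le_self_pow (by omega) p), by rw [hm, pow_succ' p (a + 1)]; exact Nat.mul_le_mul_right _ hp3⟩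

theorem caseA {p a m : ℕ} [NeZero m] (hp : p.Prime) (hp3 : 3 ≤ p) (hm : m = p ^ (a + 2)) {d : Perm (ZMod m)}
    {t : Fin 5 → ZMod m} (ht : Function.Injective t) (h0 : d (t 0) = t 1) (h1 : d (t 1) = t 2)
    (h2 : d (t 2) = t 3) (h3 : d (t 3) = t 4) : Good2 p (tr 1) d := by
  obtain ⟨b1, b2⟩ := bounds hp3 hm
  have hn := nil_s hm
  have hX := cast_inj (m := m) (X := ![1, p ^ (a + 1), p ^ (a + 1) + 1, 0, 2])
    (List.nodup_ofFn.1 (by simp [List.ofFn_succ, -Nat.pow_eq_one, -pow_eq_one_iff]; omega))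
    (fun i => by fin_cases i <;> simp <;> omega)
  have key : ∀ σ : Perm (ZMod m), (∀ i, σ (t i) = ((![1, p ^ (a + 1), p ^ (a + 1) + 1, 0, 2] i : ℕ) : ZMod m)) →
      Good p (tr 1) (σ * d * σ⁻¹) := fun σ h => by
    have e0 := conj_apply h h0
    have e1 := conj_apply h h1
    have e2 := conj_apply h h2
    have e3 := conj_apply h h3
    have e4 := hX.ne (show (2 : Fin 5) ≠ 0 by decide)
    simp only [Matrix.cons_val, Nat.cast_add, Nat.cast_one, Nat.cast_zero, Nat.cast_ofNat] at e0 e1 e2 e3 e4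
    refine good_of hp hp3 hm (x := 1) (x₀ := 1) (j := -1) (y₀ := 0) (by rw [e0]) (by rw [e2, zero_add]) e4
      (by rw [add_comm, e2, e0]; ring) ?_
    rw [zero_add, e1, e3]
    convert hn.isUnit_sub_one using 1; ring
  obtain ⟨σ, τ, k1, k2, k3⟩ := exists_two ht hX (by rw [ZMod.card]; omega)
  exact ⟨σ, τ, k1, key σ k2, key τ k3⟩

def c0 : Perm (Fin 5) := ⟨![1, 2, 0, 3, 4], ![2, 0, 1, 3, 4], by decide, by decide⟩
def c1 : Perm (Fin 6) := ⟨![1, 2, 0, 3, 4, 5], ![2, 0, 1, 3, 4, 5], by decide, by decide⟩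
def c2 : Perm (Fin 6) := ⟨![1, 2, 0, 4, 5, 3], ![2, 0, 1, 5, 3, 4], by decide, by decide⟩

theorem caseB2 {p a m : ℕ} [NeZero m] (hp : p.Prime) (hp3 : 3 ≤ p) (hm : m = p ^ (a + 2)) {d : Perm (ZMod m)}
    {t : Fin 6 → ZMod m} (ht : Function.Injective t) (hd : ∀ i, d (t i) = t (c2 i)) : Good2 p (tr 1) d := by
  obtain ⟨b1, b2⟩ := bounds hp3 hm
  have hn := nil_s hm
  have hX := cast_inj (m := m) (X := ![1, p ^ (a + 1), 2, p ^ (a + 1) + 1, 0, p ^ (a + 1) + 3])
    (List.nodup_ofFn.1 (by simp [List.ofFn_succ, -Nat.pow_eq_one, -pow_eq_one_iff]; omega))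
    (fun i => by fin_cases i <;> simp <;> omega)
  have key : ∀ σ : Perm (ZMod m), (∀ i, σ (t i) =
      ((![1, p ^ (a + 1), 2, p ^ (a + 1) + 1, 0, p ^ (a + 1) + 3] i : ℕ) : ZMod m)) →
      Good p (tr 1) (σ * d * σ⁻¹) := fun σ h => by
    have e0 := conj_apply (j := 1) h (hd 0)
    have e1 := conj_apply (j := 2) h (hd 1)
    have e2 := conj_apply (j := 4) h (hd 3)
    have e3 := conj_apply (j := 5) h (hd 4)
    have e4 := hX.ne (show (3 : Fin 6) ≠ 0 by decide)
    simp only [Matrix.cons_val, Nat.cast_add, Nat.cast_one, Nat.cast_zero, Nat.cast_ofNat] at e0 e1 e2 e3 e4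
    refine good_of hp hp3 hm (x := 1) (x₀ := 1) (j := -1) (y₀ := 0) (by rw [e0]) (by rw [e2, zero_add]) e4
      (by rw [add_comm, e2, e0]; ring) ?_
    rw [zero_add, e1, e3]
    convert hn.isUnit_add_one.neg using 1; ring
  obtain ⟨σ, τ, k1, k2, k3⟩ := exists_two ht hX (by rw [ZMod.card]; omega)
  exact ⟨σ, τ, k1, key σ k2, key τ k3⟩

theorem caseB1 {p a m : ℕ} [NeZero m] (hp : p.Prime) (hp3 : 3 ≤ p) (hm : m = p ^ (a + 2)) {d : Perm (ZMod m)}
    {t : Fin 6 → ZMod m} (ht : Function.Injective t) (hd : ∀ i, d (t i) = t (c1 i)) : Good2 p (tr 1) d := by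
  obtain ⟨b1, b2⟩ := bounds hp3 hm
  have hn := nil_s hm
  have hX := cast_inj (m := m) (X := ![2, 0, 3, 1, p ^ (a + 1) + 1, p ^ (a + 1) + 2])
    (List.nodup_ofFn.1 (by simp [List.ofFn_succ, -Nat.pow_eq_one, -pow_eq_one_iff]; omega))
    (fun i => by fin_cases i <;> simp <;> omega)
  have key : ∀ σ : Perm (ZMod m), (∀ i, σ (t i) =
      ((![2, 0, 3, 1, p ^ (a + 1) + 1, p ^ (a + 1) + 2] i : ℕ) : ZMod m)) →
      Good p (tr 1) (σ * d * σ⁻¹) := fun σ h => by
    have e0 := conj_apply (j := 1) h (hd 0)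
    have e1 := conj_apply (j := 3) h (hd 3)
    have e2 := conj_apply (j := 4) h (hd 4)
    have e3 := conj_apply (j := 5) h (hd 5)
    have e4 := hX.ne (show (0 : Fin 6) ≠ 3 by decide)
    simp only [Matrix.cons_val, Nat.cast_add, Nat.cast_one, Nat.cast_zero, Nat.cast_ofNat] at e0 e1 e2 e3 e4
    refine good_of hp hp3 hm (x := 1) (x₀ := 1) (j := 1) (y₀ := 2) (by rw [e1]; ring) (by rw [e0, zero_add]) e4
      (by rw [add_comm, e2, e1]; ring) ?_
    rw [add_comm, e3, e0, sub_zero]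
    refine hn.isUnit_add_right_of_commute ?_ (Commute.all _ _)
    exact_mod_cast (ZMod.isUnit_iff_coprime 2 m).2
      (hm ▸ ((Nat.coprime_primes Nat.prime_two hp).2 (by omega)).pow_right _)
  obtain ⟨σ, τ, k1, k2, k3⟩ := exists_two ht hX (by rw [ZMod.card]; omega)
  exact ⟨σ, τ, k1, key σ k2, key τ k3⟩

theorem ns_prime {p : ℕ} (hp : p.Prime) {d : Perm (ZMod p)} {x₀ j x : ZMod p} (h1 : d (x₀ + 1) = d x₀ + j)
    (h2 : IsUnit j) (h3 : d (x + 1) ≠ d x + j) : ¬ Group.IsSolvable (Subgroup.closure {tr 1, d}) := fun hs =>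
  h3 (by simpa using core (a := 0) hp (by simp) d hs (x₀ := x₀) (j := j) (y₀ := x₀) (by simpa) (by simpa [h1]) x)

theorem caseP {p : ℕ} [NeZero p] (hp : p.Prime) (hp5 : 5 ≤ p) : Good2 p (tr (1 : ZMod p)) (tr 1) := by
  rcases hp5.eq_or_lt with rfl | h
  · refine ⟨swap 3 4, swap 1 2 * swap 3 4, ?_, ⟨⟨0, 2, by decide, by decide, by decide⟩,
      ns_prime hp (x₀ := 0) (j := 1) (x := 1) (by decide) isUnit_one (by decide)⟩,
      ⟨⟨0, 3, by decide, by decide, by decide⟩,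
      ns_prime hp (x₀ := 0) (j := 2) (x := 2) (by decide) (by decide) (by decide)⟩⟩
    rw [map_mul, Perm.sign_swap (by decide), Perm.sign_swap (by decide)]; decide
  have ht := cast_inj (m := p) (X := ![0, 1, 2, 3]) (by decide) (fun i => by fin_cases i <;> simp <;> omega)
  have hX := cast_inj (m := p) (X := ![1, 2, 3, 0]) (by decide) (fun i => by fin_cases i <;> simp <;> omega)
  have h5 := cast_inj (m := p) (X := ![0, 4]) (by decide) (fun i => by fin_cases i <;> simp <;> omega)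
  have key : ∀ σ : Perm (ZMod p), (∀ i, σ ((![0, 1, 2, 3] i : ℕ) : ZMod p) = ((![1, 2, 3, 0] i : ℕ) : ZMod p)) →
      Good p (tr 1) (σ * tr 1 * σ⁻¹) := fun σ h => by
    have e0 := conj_apply (d := tr 1) (i := 0) (j := 1) h (by simp)
    have e1 := conj_apply (d := tr 1) (i := 1) (j := 2) h (by simp; ring)
    have e2 := conj_apply (d := tr 1) (i := 2) (j := 3) h (by simp; ring)
    have e4 := hX.ne (show (2 : Fin 4) ≠ 0 by decide)
    have e5 := h5.ne (show (0 : Fin 2) ≠ 1 by decide)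
    simp only [Matrix.cons_val, Nat.cast_one, Nat.cast_zero, Nat.cast_ofNat] at e0 e1 e2 e4 e5
    refine ⟨two_cyc hp (by omega) (x := 1) (by rw [e0]; ring) (by rw [e2, zero_add]) e4,
      ns_prime hp (x₀ := 1) (j := 1) (x := 2) (by rw [one_add_one_eq_two, e0, e1]; ring) isUnit_one ?_⟩
    rw [show (2 : ZMod p) + 1 = 3 by ring, e2, e1, show (3 : ZMod p) + 1 = 4 by ring]
    exact e5
  obtain ⟨σ, τ, k1, k2, k3⟩ := exists_two ht hX (by rw [ZMod.card]; omega)
  exact ⟨σ, τ, k1, key σ k2, key τ k3⟩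

def evB {G : Type*} [Group G] (c d : G) (l : List Bool) : G := (l.map fun b => bif b then c else d).prod

theorem evB_mem {G : Type*} [Group G] (c d : G) (l : List Bool) : evB c d l ∈ Subgroup.closure {c, d} :=
  Subgroup.list_prod_mem _ fun x hx => by
    obtain ⟨b, -, rfl⟩ := List.mem_map.1 hx
    cases b <;> exact Subgroup.subset_closure (by simp)

theorem ns_words {G : Type*} [Group G] {c d : G} (l₁ l₂ l₃ l₄ : List Bool) (h : c ≠ 1)
    (h1 : c = evB c d l₁ * evB c d l₂ * (evB c d l₁)⁻¹ * (evB c d l₂)⁻¹)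
    (h2 : d = evB c d l₃ * evB c d l₄ * (evB c d l₃)⁻¹ * (evB c d l₄)⁻¹) :
    ¬ Group.IsSolvable (Subgroup.closure {c, d}) := by
  refine OT.nonsolv le_rfl ((Subgroup.closure_le _).2 ?_) fun e =>
    h (Subgroup.mem_bot.1 (e.le (Subgroup.subset_closure (by simp))))
  rintro x (rfl | rfl)
  · rw [SetLike.mem_coe]
    nth_rewrite 3 [h1]
    exact Subgroup.commutator_mem_commutator (evB_mem _ _ _) (evB_mem _ _ _)
  · rw [SetLike.mem_coe]
    nth_rewrite 3 [h2]
    exact Subgroup.commutator_mem_commutator (evB_mem _ _ _) (evB_mem _ _ _)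

theorem good2_comm {α : Type*} [Fintype α] [DecidableEq α] {p : ℕ} {c d : Perm α} (σ ρ : Perm α)
    (h1 : Perm.sign ρ = -1) (h2 : ρ * d * ρ⁻¹ = d) (h : Good p c (σ * d * σ⁻¹)) : Good2 p c d := by
  refine ⟨σ, σ * ρ, ?_, h, ?_⟩
  · rw [map_mul, h1]
    generalize Perm.sign σ = z
    revert z; decide
  · rwa [show σ * ρ * d * (σ * ρ)⁻¹ = σ * (ρ * d * ρ⁻¹) * σ⁻¹ by group, h2]

theorem g00 : Good2 3 c0 c0 :=
  good2_comm ⟨![0, 3, 4, 1, 2], ![0, 3, 4, 1, 2], by decide, by decide⟩ (swap 3 4) (Perm.sign_swap (by decide))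
    (by decide) ⟨⟨0, 5, by decide, by decide, by decide⟩,
      ns_words [false, true, false, false] [false, true, false] [true, false, false, true] [true, false, true]
        (by decide) (by decide +kernel) (by decide +kernel)⟩

theorem g11 : Good2 3 c1 c1 :=
  good2_comm ⟨![0, 3, 4, 1, 2, 5], ![0, 3, 4, 1, 2, 5], by decide, by decide⟩ (swap 3 4)
    (Perm.sign_swap (by decide)) (by decide) ⟨⟨0, 5, by decide, by decide, by decide⟩,
      ns_words [false, true, false, false] [false, true, false] [true, false, false, true] [true, false, true]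
        (by decide) (by decide +kernel) (by decide +kernel)⟩

theorem sign3 : Perm.sign (swap 0 3 * swap 1 4 * swap 2 5 : Perm (Fin 6)) = -1 := by
  rw [map_mul, map_mul, Perm.sign_swap (by decide), Perm.sign_swap (by decide), Perm.sign_swap (by decide)]
  decide

theorem g22 : Good2 3 c2 c2 :=
  good2_comm ⟨![0, 1, 3, 2, 5, 4], ![0, 1, 3, 2, 5, 4], by decide, by decide⟩ _ sign3
    (by decide) ⟨⟨0, 5, by decide, by decide, by decide⟩,
      ns_words [false, true, false, false] [false, true, false] [true, false, false, true] [true, false, true]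
        (by decide) (by decide +kernel) (by decide +kernel)⟩

theorem g12 : Good2 3 c1 c2 :=
  good2_comm ⟨![0, 2, 3, 1, 4, 5], ![0, 3, 1, 2, 4, 5], by decide, by decide⟩ _ sign3
    (by decide) ⟨⟨1, 5, by decide, by decide, by decide⟩,
      ns_words [false, true, false, true, true, false, true, false, false] [true]
        [true, false, true, false, false, true, false, true, true] [false]
        (by decide) (by decide +kernel) (by decide +kernel)⟩

end Cfsg.Agent.AnP
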