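import Cfsg.Agent.AnP.B

/-! Two non-trivial `p`-elements of `A_n` (`p` odd): a conjugate pair with product not a `p`-element generating a
non-solvable group. -/

set_option autoImplicit false

namespace Cfsg.Agent.AnP
open Equiv

variable {β : Type*}

theorem cyc_embed {p a m : ℕ} (hp : p.Prime) (hm : m = p ^ (a + 1)) (u : Perm β) {x : β}
    (h1 : (u ^ p ^ a) x ≠ x) (h2 : (u ^ p ^ (a + 1)) x = x) :
    Function.Injective (fun i : ZMod m => (u ^ i.val) x) ∧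
      ∀ i : ZMod m, u ((u ^ i.val) x) = (u ^ (tr 1 i).val) x := by
  haveI : NeZero m := ⟨hm ▸ pow_ne_zero _ hp.ne_zero⟩
  haveI : Fact (1 < m) := ⟨hm ▸ Nat.one_lt_pow (by omega) hp.one_lt⟩
  haveI := Fact.mk hp
  have h : Function.minimalPeriod u x = m := hm ▸ Function.minimalPeriod_eq_prime_pow
    (by rwa [Function.IsPeriodicPt, Perm.iterate_eq_pow]) (by rwa [Function.IsPeriodicPt, Perm.iterate_eq_pow])
  refine ⟨fun i j e => ZMod.val_injective _ ((Function.iterate_eq_iterate_iff_of_lt_minimalPeriod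
    ((ZMod.val_lt i).trans_eq h.symm) ((ZMod.val_lt j).trans_eq h.symm)).1
      (by simpa only [Perm.iterate_eq_pow] using e)), fun i => ?_⟩
  have := Function.iterate_mod_minimalPeriod_eq (f := u) (x := x) (n := i.val + 1)
  rw [h, Perm.iterate_eq_pow, Perm.iterate_eq_pow] at this
  rw [tr_apply, ZMod.val_add, ZMod.val_one, this, pow_succ', Perm.mul_apply]

theorem pow_mem_inv {w : Perm β} {Y : Finset β} (hY : ∀ y ∈ Y, w y ∈ Y) (k : ℕ) {y : β} (hy : y ∈ Y) :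
    (w ^ k) y ∈ Y := by
  induction k with
  | zero => exact hy
  | succ k ih => rw [pow_succ', Perm.mul_apply]; exact hY _ ih

theorem inv_iff {w : Perm β} {Z : Finset β} (hZ : ∀ y ∈ Z, w y ∈ Z) (y : β) : w y ∈ Z ↔ y ∈ Z :=
  ⟨fun h => by simpa using Perm.perm_symm_on_of_perm_on_finset hZ h, hZ y⟩

variable [DecidableEq β]

theorem exists_orbit {p a : ℕ} (hp : p.Prime) (w : Perm β) {x : β} (h1 : (w ^ p ^ a) x ≠ x)
    (h2 : (w ^ p ^ (a + 1)) x = x) : ∃ O : Finset β, x ∈ O ∧ (∀ z ∈ O, w z ∈ O) ∧ O.card = p ^ (a + 1) ∧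
      ∀ z ∈ O, ∃ k : ℕ, z = (w ^ k) x := by
  haveI : NeZero (p ^ (a + 1)) := ⟨pow_ne_zero _ hp.ne_zero⟩
  obtain ⟨k1, k2⟩ := cyc_embed hp rfl w h1 h2
  refine ⟨Finset.univ.image fun i : ZMod (p ^ (a + 1)) => (w ^ i.val) x,
    Finset.mem_image.2 ⟨0, Finset.mem_univ _, by simp⟩, fun z hz => ?_,
    by rw [Finset.card_image_of_injective _ k1, Finset.card_univ, ZMod.card], fun z hz => ?_⟩
  · obtain ⟨i, -, rfl⟩ := Finset.mem_image.1 hz
    exact Finset.mem_image.2 ⟨_, Finset.mem_univ _, (k2 i).symm⟩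
  · obtain ⟨i, -, rfl⟩ := Finset.mem_image.1 hz
    exact ⟨_, rfl⟩

theorem multi {w : Perm β} {q : ℕ} {P : β → Prop}
    (h : ∀ Y : Finset β, (∀ y ∈ Y, w y ∈ Y) → (∀ y ∈ Y, P y) → q ≤ Y.card →
      ∃ Z ⊆ Y, (∀ z ∈ Z, w z ∈ Z) ∧ Z.card = q) (k : ℕ) (Y : Finset β) (h1 : ∀ y ∈ Y, w y ∈ Y)
    (h2 : ∀ y ∈ Y, P y) (h3 : k * q ≤ Y.card) : ∃ Z ⊆ Y, (∀ z ∈ Z, w z ∈ Z) ∧ Z.card = k * q := by
  induction k with
  | zero => exact ⟨∅, by simp⟩
  | succ k ih =>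
    rw [Nat.succ_mul] at h3 ⊢
    obtain ⟨Z, z1, z2, z3⟩ := ih (by omega)
    obtain ⟨Z', y1, y2, y3⟩ := h (Y \ Z) (fun y hy => by
        rw [Finset.mem_sdiff] at hy ⊢
        exact ⟨h1 y hy.1, fun e => hy.2 ((inv_iff z2 y).1 e)⟩)
      (fun y hy => h2 y (Finset.mem_sdiff.1 hy).1) (by rw [Finset.card_sdiff_of_subset z1]; omega)
    refine ⟨Z ∪ Z', Finset.union_subset z1 (y1.trans Finset.sdiff_subset), fun z hz => ?_, ?_⟩
    · rw [Finset.mem_union] at hz ⊢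
      exact hz.imp (z2 z) (y2 z)
    · rw [Finset.card_union_of_disjoint (Finset.disjoint_sdiff.mono_right y1), z3, y3]

theorem exists_inv {p : ℕ} (hp : p.Prime) (w : Perm β) (b : ℕ) : ∀ Y : Finset β, (∀ y ∈ Y, w y ∈ Y) →
    (∀ y ∈ Y, (w ^ p ^ b) y = y) → p ^ b ≤ Y.card → ∃ Z ⊆ Y, (∀ z ∈ Z, w z ∈ Z) ∧ Z.card = p ^ b := by
  induction b with
  | zero =>
    intro Y _ h2 h3
    obtain ⟨y, hy⟩ := Finset.card_pos.1 h3
    exact ⟨{y}, by simpa, by simpa using h2 y hy, by simp⟩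
  | succ b ih =>
    intro Y h1 h2 h3
    by_cases h : ∃ y ∈ Y, (w ^ p ^ b) y ≠ y
    · obtain ⟨y, hy, h⟩ := h
      obtain ⟨O, -, o2, o3, o4⟩ := exists_orbit hp w h (h2 y hy)
      refine ⟨O, fun z hz => ?_, o2, o3⟩
      obtain ⟨k, rfl⟩ := o4 z hz
      exact pow_mem_inv h1 k hy
    · push Not at h
      rw [pow_succ'] at h3 ⊢
      exact multi ih p Y h1 h h3

variable [Fintype β]

theorem exists_embed {p a b m : ℕ} (hp : p.Prime) (hm : m = p ^ (a + 1)) (hb : b ≤ a) (hn : m ≤ Fintype.card β)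
    (w : Perm β) {x : β} (h1 : (w ^ p ^ b) x ≠ x) (h2 : w ^ p ^ (b + 1) = 1) :
    ∃ (κ : ZMod m → β) (d : Perm (ZMod m)) (t : ZMod m), Function.Injective κ ∧ (∀ i, w (κ i) = κ (d i)) ∧
      κ t = x := by
  haveI : NeZero m := ⟨hm ▸ pow_ne_zero _ hp.ne_zero⟩
  obtain ⟨O, o1, o2, o3, -⟩ := exists_orbit hp w h1 (by rw [h2]; rfl)
  obtain ⟨l, rfl⟩ := Nat.exists_eq_add_of_le hb
  have e : m = (p ^ l - 1) * p ^ (b + 1) + p ^ (b + 1) := by
    rw [← Nat.succ_mul, Nat.succ_eq_add_one, Nat.sub_add_cancel (Nat.one_le_pow _ _ hp.pos), hm]; ring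
  obtain ⟨Z, z1, z2, z3⟩ := multi (exists_inv hp w (b + 1)) (p ^ l - 1) Oᶜ
    (fun y hy => by rw [Finset.mem_compl] at hy ⊢; exact fun e => hy ((inv_iff o2 y).1 e))
    (fun y _ => by rw [h2]; rfl) (by rw [Finset.card_compl]; omega)
  have hD : ∀ y ∈ O ∪ Z, w y ∈ O ∪ Z := fun z hz => by
    rw [Finset.mem_union] at hz ⊢
    exact hz.imp (o2 z) (z2 z)
  have hc : Fintype.card ↥(O ∪ Z) = Fintype.card (ZMod m) := by
    rw [Fintype.card_coe, Finset.card_union_of_disjoint (disjoint_compl_right.mono_right z1), ZMod.card]; omega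
  let f := Fintype.equivOfCardEq hc
  exact ⟨fun i => f.symm i, f.permCongr (w.subtypePerm (inv_iff hD)), f ⟨x, Finset.mem_union_left _ o1⟩,
    Subtype.val_injective.comp f.symm.injective, fun i => by simp, by simp⟩

theorem ord3 {d : Perm β} (hd : ∀ x, d (d (d x)) = x) {x : β} (hx : d x ≠ x) :
    (∃ t : Fin 6 → β, Function.Injective t ∧ ∀ i, d (t i) = t (c2 i)) ∨
      ((6 ≤ Fintype.card β → ∃ t : Fin 6 → β, Function.Injective t ∧ ∀ i, d (t i) = t (c1 i)) ∧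
       (5 ≤ Fintype.card β → ∃ t : Fin 5 → β, Function.Injective t ∧ ∀ i, d (t i) = t (c0 i))) := by
  have a : ∀ {x}, d x ≠ x → x ≠ d x ∧ x ≠ d (d x) := fun {x} h =>
    ⟨h.symm, fun e => h (by rw [e, hd, ← e])⟩
  by_cases h : ∃ y, (x ≠ y ∧ d x ≠ y ∧ d (d x) ≠ y) ∧ d y ≠ y
  · obtain ⟨y, ⟨y1, y2, y3⟩, hy⟩ := h
    have b1 : x ≠ d y := fun e => y3 (by rw [e, hd])
    have b2 : x ≠ d (d y) := fun e => y2 (by rw [e, hd])
    have b3 : d (d x) ≠ d y := fun e => y2 (d.injective e)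
    refine Or.inl ⟨![x, d x, d (d x), y, d y, d (d y)], List.nodup_ofFn.1 ?_, fun i => ?_⟩
    · simp [List.ofFn_succ, a hx, a hy, y1, y2, y3, b1, b2]
    · fin_cases i <;> simp [c2, hd]
  · have h' : ∀ y ∈ ({x, d x, d (d x)} : Finset β)ᶜ, (x ≠ y ∧ d x ≠ y ∧ d (d x) ≠ y) ∧ d y = y := by
      intro y hy
      simp only [Finset.mem_compl, Finset.mem_insert, Finset.mem_singleton, not_or] at hy
      have : x ≠ y ∧ d x ≠ y ∧ d (d x) ≠ y := ⟨Ne.symm hy.1, Ne.symm hy.2.1, Ne.symm hy.2.2⟩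
      exact ⟨this, by_contra fun e => h ⟨y, this, e⟩⟩
    have hc := Finset.card_le_three (a := x) (b := d x) (c := d (d x))
    refine Or.inr ⟨fun h6 => ?_, fun h5 => ?_⟩
    · obtain ⟨y, hy, z, hz, v, hv, n1, n2, n3⟩ := Finset.two_lt_card.1
        (show 2 < ({x, d x, d (d x)} : Finset β)ᶜ.card by rw [Finset.card_compl]; omega)
      refine ⟨![x, d x, d (d x), y, z, v], List.nodup_ofFn.1 ?_, fun i => ?_⟩
      · simp [List.ofFn_succ, a hx, h' y hy, h' z hz, h' v hv, n1, n2, n3]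
      · fin_cases i <;> simp [c1, hd, h' y hy, h' z hz, h' v hv]
    · obtain ⟨y, hy, z, hz, n1⟩ := Finset.one_lt_card.1
        (show 1 < ({x, d x, d (d x)} : Finset β)ᶜ.card by rw [Finset.card_compl]; omega)
      refine ⟨![x, d x, d (d x), y, z], List.nodup_ofFn.1 ?_, fun i => ?_⟩
      · simp [List.ofFn_succ, a hx, h' y hy, h' z hz, n1]
      · fin_cases i <;> simp [c0, hd, h' y hy, h' z hz]

theorem exists_pt {n p : ℕ} (hp : p.Prime) {u : alternatingGroup (Fin n)} (hu : u ≠ 1)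
    (hu' : ∃ k : ℕ, orderOf u = p ^ k) : ∃ (a : ℕ) (x : Fin n), (u.1 ^ p ^ a) x ≠ x ∧ u.1 ^ p ^ (a + 1) = 1 := by
  obtain ⟨k, hk⟩ := hu'
  cases k with
  | zero => exact absurd (orderOf_eq_one_iff.1 hk) hu
  | succ a =>
    have h1 : u ^ p ^ a ≠ 1 := pow_ne_one_of_lt_orderOf (pow_ne_zero _ hp.ne_zero)
      (hk ▸ Nat.pow_lt_pow_right hp.one_lt (by omega))
    obtain ⟨x, hx⟩ : ∃ x, (u.1 ^ p ^ a) x ≠ x := by
      by_contra! h
      exact h1 (Subtype.ext (Perm.ext h))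
    exact ⟨a, x, hx, by rw [← hk]; exact congrArg Subtype.val (pow_orderOf_eq_one u)⟩

theorem cube {d : Perm β} (h : d ^ 3 ^ (0 + 1) = 1) (x : β) : d (d (d x)) = x :=
  congrArg (fun f : Perm β => f x) h

theorem concl_le {n p a b : ℕ} (hn : 5 ≤ n) (hp : p.Prime) (hp3 : 3 ≤ p) {u w : alternatingGroup (Fin n)}
    {x y : Fin n} (hab : b ≤ a) (u1 : (u.1 ^ p ^ a) x ≠ x) (u2 : u.1 ^ p ^ (a + 1) = 1)
    (w1 : (w.1 ^ p ^ b) y ≠ y) (w2 : w.1 ^ p ^ (b + 1) = 1) : Concl p u w := by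
  have h5 : p = 3 ∨ 5 ≤ p := by
    rcases hp3.eq_or_lt with h | h
    · exact Or.inl h.symm
    · exact Or.inr (hp.five_le_of_ne_two_of_ne_three (by omega) (by omega))
  cases a with
  | zero =>
    obtain rfl : b = 0 := by omega
    rcases h5 with rfl | h5
    · have six : ∀ {t : Fin 6 → Fin n}, Function.Injective t → 6 ≤ Fintype.card (Fin n) := fun h => by
        simpa using Fintype.card_le_of_injective _ h
      rcases ord3 (cube u2) u1 with ⟨s, s1, s2⟩ | ⟨s6, s5⟩ <;>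
        rcases ord3 (cube w2) w1 with ⟨t, t1, t2⟩ | ⟨t6, t5⟩
      · exact g22.concl s1 t1 s2 t2
      · obtain ⟨t, t1, t2⟩ := t6 (six s1)
        exact (g12.concl t1 s1 t2 s2).symm
      · obtain ⟨s, s1, s2⟩ := s6 (six t1)
        exact g12.concl s1 t1 s2 t2
      · obtain ⟨s, s1, s2⟩ := s5 (by simpa)
        obtain ⟨t, t1, t2⟩ := t5 (by simpa)
        exact g00.concl s1 t1 s2 t2
    · haveI : NeZero p := ⟨hp.ne_zero⟩
      obtain ⟨s1, s2⟩ := cyc_embed (m := p) hp (by simp) u.1 u1 (by rw [u2]; rfl)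
      obtain ⟨t1, t2⟩ := cyc_embed (m := p) hp (by simp) w.1 w1 (by rw [w2]; rfl)
      exact (caseP hp h5).concl s1 t1 s2 t2
  | succ a =>
    haveI : NeZero (p ^ (a + 2)) := ⟨pow_ne_zero _ hp.ne_zero⟩
    obtain ⟨s1, s2⟩ := cyc_embed (m := p ^ (a + 2)) hp rfl u.1 u1 (by rw [u2]; rfl)
    obtain ⟨κ, d, t, k1, k2, k3⟩ := exists_embed (m := p ^ (a + 2)) hp rfl hab
      (by simpa using Fintype.card_le_of_injective _ s1) w.1 w1 w2
    refine Good2.concl s1 k1 s2 k2 ?_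
    have k4 : ∀ (j : ℕ) i, κ ((d ^ j) i) = (w.1 ^ j) (κ i) := fun j i => by
      induction j with
      | zero => rfl
      | succ j ih => rw [pow_succ' d, pow_succ' w.1, Perm.mul_apply, Perm.mul_apply, ← k2, ih]
    by_cases h : 5 ≤ p ^ (b + 1)
    · haveI := Fact.mk hp
      have hm : Function.minimalPeriod w.1 y = p ^ (b + 1) := Function.minimalPeriod_eq_prime_pow
        (by rwa [Function.IsPeriodicPt, Perm.iterate_eq_pow])
        (by rw [Function.IsPeriodicPt, Perm.iterate_eq_pow, w2]; rfl)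
      refine caseA hp hp3 rfl (t := fun i => (d ^ i.val) t) (fun i j e => Fin.ext ?_) rfl rfl rfl rfl
      have := congrArg κ e
      rw [k4, k4, k3] at this
      exact (Function.iterate_eq_iterate_iff_of_lt_minimalPeriod (hm ▸ i.2.trans_le h)
        (hm ▸ j.2.trans_le h)).1 (by simpa only [Perm.iterate_eq_pow] using this)
    · obtain rfl : p = 3 := h5.resolve_right fun e => h (e.trans (Nat.le_self_pow (by omega) p))
      obtain rfl : b = 0 := by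
        by_contra e
        exact h ((show 5 ≤ 3 ^ 2 by norm_num).trans (Nat.pow_le_pow_right (by norm_num) (by omega)))
      have h3 : ∀ i, d (d (d i)) = i := fun i => k1 (by rw [← k2, ← k2, ← k2, cube w2])
      rcases ord3 h3 (x := t) (fun e => w1 (by rw [← k3]; exact (k2 t).trans (congrArg κ e))) with
        ⟨s, t1, t2⟩ | ⟨s6, -⟩
      · exact caseB2 hp hp3 rfl t1 t2
      · have := bounds (a := a) hp3 rfl
        obtain ⟨s, t1, t2⟩ := s6 (by rw [ZMod.card]; omega)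
        exact caseB1 hp hp3 rfl t1 t2

theorem main (n : ℕ) (hn : 5 ≤ n) (p : ℕ) (hp : p.Prime) (hp3 : 3 ≤ p) (u w : alternatingGroup (Fin n))
    (hu : u ≠ 1) (hw : w ≠ 1) (hu' : ∃ k : ℕ, orderOf u = p ^ k) (hw' : ∃ k : ℕ, orderOf w = p ^ k) :
    Concl p u w := by
  obtain ⟨a, x, u1, u2⟩ := exists_pt hp hu hu'
  obtain ⟨b, y, w1, w2⟩ := exists_pt hp hw hw'
  rcases le_total b a with h | h
  · exact concl_le hn hp hp3 h u1 u2 w1 w2
  · exact (concl_le hn hp hp3 h w1 w2 u1 u2).symm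

end Cfsg.Agent.AnP
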